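import Mathlib
import Cfsg.Agent.Base
import Cfsg.Agent.Lib.Q16.Bas
import Cfsg.Agent.Lib.KSp.Mat
import Cfsg.Agent.Lib.GL.Basic

/-! Involution centralisers in `M₁₁`, `M₁₂`, `M₂₂` and `L₃(3)`. -/

set_option autoImplicit false
set_option maxRecDepth 100000
set_option synthInstance.maxSize 100000

namespace H4.Q16
open Subgroup Cfsg H68 H71.KS

namespace KM1
open Matrix

open H96.Geo in
theorem kf_of_table {H : Subgroup (Equiv.Perm GolayPt)} {L : List Cl} (T : ClassTable H L) (f : AllFine H) {n : ℕ}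
    (c : Nat.card H = n) (h : ∀ e ∈ L, e.o = 2 → e.z ∣ 384 ∨ 0 < e.z ∧ 4 * e.z ∣ n ∧ ¬ 13 ∣ e.z) : KF H := fun t ht => by
  obtain ⟨e, he, o, z⟩ := table_data T t
  refine (h e he (o.symm.trans ht)).imp (fun d => ?_) fun d => ⟨?_, fun a => absurd (z ▸ a) d.2.2⟩
  · have := solv_of_primes (G := centralizer ({t} : Set H)) Nat.prime_three fun r hr a =>
      ((Nat.Prime.dvd_mul hr).1 (a.trans (z ▸ d : _ ∣ 2 ^ 7 * 3))).imp
        (fun b => (Nat.prime_dvd_prime_iff_eq hr Nat.prime_two).1 (hr.dvd_of_dvd_pow b))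
        (Nat.prime_dvd_prime_iff_eq hr Nat.prime_three).1
    exact H70.charP_iff.2 (H23.centralizer_pCore_le_iff.2 ⟨(f t ht).1, H23.layer_eq_bot_of_isSolvable⟩)
  · have k := (centralizer ({t} : Set H)).index_mul_card
    rw [z, c] at k
    exact Nat.dvd_of_mul_dvd_mul_right d.1 (k ▸ d.2.1)

/-- the determinant -/
def d3 (a b c d e f g h i : ZMod 3) : ZMod 3 := a * e * i - a * f * h - b * d * i + b * f * g + c * d * h - c * e * g

theorem inv_cls : ∀ a b c d g : ZMod 3, a * a + b * d + c * g = 1 → ∀ e h : ZMod 3, a * b + b * e + c * h = 0 →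
    ∀ f i : ZMod 3, a * c + b * f + c * i = 0 → d * a + e * d + f * g = 0 → d * b + e * e + f * h = 1 →
    d * c + e * f + f * i = 0 → g * a + h * d + i * g = 0 → g * b + h * e + i * h = 0 → g * c + h * f + i * i = 1 →
    d3 a b c d e f g h i = 1 → (a = 1 ∧ b = 0 ∧ c = 0 ∧ d = 0 ∧ e = 1 ∧ f = 0 ∧ g = 0 ∧ h = 0 ∧ i = 1) ∨
    ∃ u v w : Fin 3, d3 (![a + 1, b, c] u) (![a - 1, b, c] v) (![a - 1, b, c] w) (![d, e + 1, f] u) (![d, e - 1, f] v)
      (![d, e - 1, f] w) (![g, h, i + 1] u) (![g, h, i - 1] v) (![g, h, i - 1] w) = 1 := by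
  decide +kernel

theorem q8 : ∀ a b c e f : ZMod 3, a * (b * f - c * e) = 1 → b * b + c * e = 2 → b * c + c * f = 0 → e * b + f * e = 0 →
    e * c + f * f = 2 → ∀ a' b' c' e' f' : ZMod 3, a' * (b' * f' - c' * e') = 1 → b' * b' + c' * e' = 2 →
    b' * c' + c' * f' = 0 → e' * b' + f' * e' = 0 → e' * c' + f' * f' = 2 → ∀ x y z w : ZMod 3, x = b * b' + c * e' →
    y = b * c' + c * f' → z = e * b' + f * e' → w = e * c' + f * f' → a * a' = 1 ∧ ((x = 1 ∧ y = 0 ∧ z = 0 ∧ w = 1) ∨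
    (x = 2 ∧ y = 0 ∧ z = 0 ∧ w = 2) ∨ x * x + y * z = 2 ∧ x * y + y * w = 0 ∧ z * x + w * z = 0 ∧ z * y + w * w = 2) := by
  decide +kernel

/-- block matrices -/
def bk (a b c e f : ZMod 3) : Matrix (Fin 3) (Fin 3) (ZMod 3) := !![a, 0, 0; 0, b, c; 0, e, f]

theorem bk_mul (a b c e f a' b' c' e' f' : ZMod 3) : bk a b c e f * bk a' b' c' e' f' =
    bk (a * a') (b * b' + c * e') (b * c' + c * f') (e * b' + f * e') (e * c' + f * f') := by
  simp [bk]

theorem bk_inj {a b c e f a' b' c' e' f' : ZMod 3} (h : bk a b c e f = bk a' b' c' e' f') :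
    a = a' ∧ b = b' ∧ c = c' ∧ e = e' ∧ f = f' :=
  ⟨congrFun (congrFun h 0) 0, congrFun (congrFun h 1) 1, congrFun (congrFun h 1) 2, congrFun (congrFun h 2) 1,
    congrFun (congrFun h 2) 2⟩

theorem bk_det (a b c e f : ZMod 3) : (bk a b c e f).det = a * (b * f - c * e) := by
  simp [bk, det_fin_three]; ring

theorem bk_one : bk 1 1 0 0 1 = 1 := one_fin_three.symm

/-- elements of the special linear group -/
def sl (a b c e f : ZMod 3) (h : a * (b * f - c * e) = 1) : SpecialLinearGroup (Fin 3) (ZMod 3) :=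
  ⟨bk a b c e f, (bk_det ..).trans h⟩

/-- the involution -/
def dd : SpecialLinearGroup (Fin 3) (ZMod 3) := sl 1 2 0 0 2 (by decide)

theorem dd_sq : dd * dd = 1 := Subtype.ext ((bk_mul ..).trans bk_one)

theorem exists_bk {g : SpecialLinearGroup (Fin 3) (ZMod 3)} (h : g ∈ centralizer {dd}) :
    ∃ a b c e f k, g = sl a b c e f k := by
  have e : g.1 * bk 1 2 0 0 2 = bk 1 2 0 0 2 * g.1 := congrArg (·.1) (mem_centralizer_singleton_iff.1 h)
  have k : ∀ x : ZMod 3, (x * 2 = x ∨ x = 2 * x) → x = 0 := by decide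
  have e1 : g.1 = bk (g.1 0 0) (g.1 1 1) (g.1 1 2) (g.1 2 1) (g.1 2 2) := by
    have a1 := congrFun (congrFun e 0) 1
    have a2 := congrFun (congrFun e 0) 2
    have a3 := congrFun (congrFun e 1) 0
    have a4 := congrFun (congrFun e 2) 0
    simp only [bk, mul_apply, Fin.sum_univ_three, of_apply, cons_val, mul_zero, zero_mul, add_zero, zero_add, one_mul,
      mul_one, cons_val', cons_val_zero, cons_val_one, cons_val_fin_one] at a1 a2 a3 a4
    refine (eta_fin_three g.1).trans ?_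
    rw [k _ (.inl a1), k _ (.inl a2), k _ (.inr a3), k _ (.inr a4)]; rfl
  exact ⟨_, _, _, _, _, (bk_det ..).symm.trans (e1 ▸ g.2), Subtype.ext e1⟩

/-- the quaternion subgroup -/
def RQ : Subgroup (SpecialLinearGroup (Fin 3) (ZMod 3)) where
  carrier := {g | g ∈ centralizer {dd} ∧ (g = 1 ∨ g = dd ∨ g * g = dd)}
  one_mem' := ⟨one_mem _, .inl rfl⟩
  inv_mem' {g} h := ⟨inv_mem h.1, h.2.imp (fun e => by rw [e, inv_one]) (.imp
    (fun e => by rw [e, inv_eq_of_mul_eq_one_right dd_sq])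
    fun e => by rw [← _root_.mul_inv_rev, e, inv_eq_of_mul_eq_one_right dd_sq])⟩
  mul_mem' {g h} a b := by
    refine ⟨mul_mem a.1 b.1, ?_⟩
    have c1 := mem_centralizer_singleton_iff.1 a.1
    have c2 := mem_centralizer_singleton_iff.1 b.1
    rcases a.2 with rfl | rfl | e1
    · rw [one_mul]; exact b.2
    · rcases b.2 with rfl | rfl | e2
      · exact .inr (.inl (mul_one _))
      · exact .inl dd_sq
      · exact .inr (.inr (by rw [mul_assoc, ← mul_assoc h, c2, mul_assoc, e2, dd_sq, mul_one]))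
    rcases b.2 with rfl | rfl | e2
    · rw [mul_one]; exact a.2
    · exact .inr (.inr (by rw [mul_assoc, ← mul_assoc dd, ← c1, mul_assoc, dd_sq, mul_one, e1]))
    obtain ⟨x, y, z, u, v, k, rfl⟩ := exists_bk a.1
    obtain ⟨x', y', z', u', v', k', rfl⟩ := exists_bk b.1
    obtain ⟨-, p1, p2, p3, p4⟩ := bk_inj ((bk_mul ..).symm.trans (congrArg Subtype.val e1))
    obtain ⟨-, q1, q2, q3, q4⟩ := bk_inj ((bk_mul ..).symm.trans (congrArg Subtype.val e2))
    obtain ⟨r, s⟩ := q8 _ _ _ _ _ k p1 p2 p3 p4 _ _ _ _ _ k' q1 q2 q3 q4 _ _ _ _ rfl rfl rfl rfl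
    refine s.imp (fun ⟨s1, s2, s3, s4⟩ => Subtype.ext ((bk_mul ..).trans ?_)) (.imp
      (fun ⟨s1, s2, s3, s4⟩ => Subtype.ext ((bk_mul ..).trans ?_)) fun ⟨s1, s2, s3, s4⟩ => Subtype.ext ?_)
    · rw [r, s1, s2, s3, s4]; exact bk_one
    · rw [r, s1, s2, s3, s4]; rfl
    · show bk _ _ _ _ _ * bk _ _ _ _ _ * (bk _ _ _ _ _ * bk _ _ _ _ _) = bk _ _ _ _ _
      rw [bk_mul, bk_mul, r, s1, s2, s3, s4, mul_one]

theorem charP_dd : H70.CharP 2 (centralizer ({dd} : Set (SpecialLinearGroup (Fin 3) (ZMod 3)))) := by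
  refine charP_of_normal (R := RQ) (fun g => ⟨2, Subtype.ext ?_⟩) (fun g h => h.1)
    (fun x hx => mem_normalizer_fintype fun g h => ⟨mul_mem (mul_mem hx h.1) (inv_mem hx), ?_⟩)
    fun g => ⟨1, Subtype.ext ?_⟩
  · show g.1 ^ (2 * 2) = 1
    rw [pow_mul, pow_two, pow_two]
    rcases g.2.2 with e | e | e <;> simp only [e, dd_sq, mul_one]
  · have c : x * dd * x⁻¹ = dd := mul_inv_eq_iff_eq_mul.2 (mem_centralizer_singleton_iff.1 hx)
    exact h.2.imp (fun e => by simp [e]) (.imp (fun e => by rw [e, c]) fun e => by rw [conj_mul, e, c])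
  · obtain ⟨g, h1, h2⟩ := g
    obtain ⟨a, b, c, e, f, k, rfl⟩ := exists_bk h1
    have m : ∀ x y z w k, x * x + y * z = 2 → x * y + y * w = 0 → z * x + w * z = 0 → z * y + w * w = 2 →
        sl 1 x y z w k ∈ RQ := fun x y z w k s1 s2 s3 s4 =>
      ⟨mem_centralizer_singleton_iff.2 (Subtype.ext ((bk_mul ..).trans (.trans (by congr 1 <;> ring) (bk_mul ..).symm))),
        .inr (.inr (Subtype.ext ((bk_mul ..).trans (by rw [s1, s2, s3, s4, mul_one]; rfl))))⟩
    have e1 := bk_inj ((bk_mul ..).symm.trans ((congrArg Subtype.val (h2 _ (m 0 2 1 0 (by decide) rfl rfl rfl rfl))).trans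
      (bk_mul ..)))
    have e2 := bk_inj ((bk_mul ..).symm.trans ((congrArg Subtype.val (h2 _ (m 1 1 1 2 (by decide) rfl rfl rfl rfl))).trans
      (bk_mul ..)))
    obtain ⟨r1, r2, r3, r4, r5⟩ := (by decide +kernel : ∀ a b c e f : ZMod 3, a * (b * f - c * e) = 1 →
      0 * b + 2 * e = b * 0 + c * 1 → 0 * c + 2 * f = b * 2 + c * 0 → 1 * b + 1 * e = b * 1 + c * 1 →
      a * a = 1 ∧ b * b + c * e = 1 ∧ b * c + c * f = 0 ∧ e * b + f * e = 0 ∧ e * c + f * f = 1) a b c e f k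
      e1.2.1 e1.2.2.1 e2.2.1
    show sl a b c e f k ^ 2 = 1
    rw [pow_two]
    exact Subtype.ext ((bk_mul ..).trans (by rw [r1, r2, r3, r4, r5]; exact bk_one))

theorem conj_dd (t : SpecialLinearGroup (Fin 3) (ZMod 3)) (ht : orderOf t = 2) : IsConj dd t := by
  have e : t.1 * t.1 = 1 := congrArg (·.1) (sq_of_ord ht)
  have k := fun i j => congrFun (congrFun e i) j
  simp only [mul_apply, Fin.sum_univ_three] at k
  rcases inv_cls (t.1 0 0) (t.1 0 1) (t.1 0 2) (t.1 1 0) (t.1 2 0) (k 0 0) (t.1 1 1) (t.1 2 1) (k 0 1) (t.1 1 2)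
    (t.1 2 2) (k 0 2) (k 1 0) (k 1 1) (k 1 2) (k 2 0) (k 2 1) (k 2 2) ((det_fin_three t.1).symm.trans t.2) with ⟨a1, a2, a3, a4, a5, a6, a7, a8, a9⟩ | ⟨u, v, w, h⟩
  · refine (ne_of_ord ht (Subtype.ext ((eta_fin_three t.1).trans ?_))).elim
    rw [a1, a2, a3, a4, a5, a6, a7, a8, a9]; exact one_fin_three.symm
  have e1 : t.1 * (t.1 + 1) = t.1 + 1 := by rw [mul_add, e, mul_one, add_comm]
  have e2 : t.1 * (t.1 - 1) = -(t.1 - 1) := by rw [mul_sub, e, mul_one, neg_sub]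
  refine isConj_iff.2 ⟨⟨of fun r => ![(t.1 + 1) r u, (t.1 - 1) r v, (t.1 - 1) r w], ?_⟩,
    mul_inv_eq_iff_eq_mul.2 (Subtype.ext ?_)⟩
  · have f : ∀ (r : Fin 3) (s : ZMod 3), (fun j => (t.1 + s • 1) r j) =
        ![![t.1 0 0 + s, t.1 0 1, t.1 0 2], ![t.1 1 0, t.1 1 1 + s, t.1 1 2], ![t.1 2 0, t.1 2 1, t.1 2 2 + s]] r :=
      fun r s => by ext j; fin_cases r <;> fin_cases j <;> simp
    have f1 := fun r j => congrFun (f r 1) j
    have f2 := fun r j => congrFun (f r (-1)) j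
    simp only [one_smul, neg_smul, ← sub_eq_add_neg] at f1 f2
    refine (det_fin_three _).trans (.trans ?_ h)
    simp only [of_apply, cons_val, f1, f2, d3]
  · show (of fun r => ![(t.1 + 1) r u, (t.1 - 1) r v, (t.1 - 1) r w]) * bk 1 2 0 0 2 =
      t.1 * of fun r => ![(t.1 + 1) r u, (t.1 - 1) r v, (t.1 - 1) r w]
    ext r j
    have g1 := fun i => congrFun (congrFun e1 r) i
    have g2 := fun i => congrFun (congrFun e2 r) i
    have m : ∀ x : ZMod 3, x * 2 = -x := by decide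
    generalize t.1 + 1 = A at g1 ⊢
    generalize t.1 - 1 = B at g2 ⊢
    simp only [mul_apply, Fin.sum_univ_three, Matrix.neg_apply] at g1 g2 ⊢
    fin_cases j <;> simp [bk, g1, g2, m]

theorem force_KM1 : True := by
  have := @d3.eq_1
  have := @bk.eq_1
  have := @sl.eq_1
  have := @dd.eq_1
  have := @RQ.eq_1
  trivial

end KM1

theorem kf_M11 : KF Spor.M11 := KM1.kf_of_table H96.Geo.M11.table m11 H15.card_M11 (by decide +kernel)
theorem kf_M12 : KF Spor.M12 := KM1.kf_of_table H96.Geo.M12.table m12 H15.card_M12 (by decide +kernel)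
theorem kf_M22 : KF Spor.M22 := KM1.kf_of_table H96.Geo.M22.table m22 H15.card_M22 (by decide +kernel)
theorem kf_L33 {F : Type} [Field F] [Fintype F] (hF : Fintype.card F = 3) :
    KF (Matrix.ProjectiveSpecialLinearGroup (Fin 3) F) :=
  KF.congr (fun t ht => .inl (charP_conj KM1.charP_dd (KM1.conj_dd t ht)))
    ((H10.pslCongr (FiniteField.ringEquivOfCardEq (hF.trans (ZMod.card 3).symm))).trans (H10.quotCenterEquivOfBot
      (by rw [← card_eq_one, H10.card_center_SL, Nat.card_zmod]; decide))).symm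

end H4.Q16
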