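import Mathlib
import Cfsg.Agent.Base
import Cfsg.Agent.Lib.Q16.Bas
import Cfsg.Agent.Lib.KSp.Ru

/-! Involution centralisers in `Ru` (helper84). -/

set_option autoImplicit false

namespace H84.KR
open Subgroup Cfsg H54 H15 H15.Mdl H15.RuM H15R
open scoped commutatorElement

/-- a central involution of `C` in `C'` lies in `D'` when `D` has odd index -/
theorem mem_comm {G : Type*} [Group G] [Finite G] {C D : Subgroup G} (hD : D ≤ C) {y : G} (yC : y ∈ C)
    (hy : ∀ g ∈ C, g * y = y * g) (h2 : y * y = 1) (ho : ¬ 2 ∣ D.relIndex C) (h : y ∈ ⁅C, C⁆) :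
    y ∈ ⁅D, D⁆ := by
  have key : ∀ (k : ℕ) (g : C), g⁻¹ * (⟨y, yC⟩ : C) ^ k * g ∈ D.subgroupOf C →
      g⁻¹ * (⟨y, yC⟩ : C) ^ k * g = ⟨y, yC⟩ ^ k := fun k g _ => by
    have : Commute g ⟨y, yC⟩ := Subtype.ext (hy g g.2)
    rw [mul_assoc, ← (this.pow_right k).eq, inv_mul_cancel_left]
  have e := MonoidHom.transfer_eq_pow (Abelianization.of (G := D.subgroupOf C)) ⟨y, yC⟩ key
  have m : (⟨y, yC⟩ : C) ∈ _root_.commutator C := by
    rw [commutator_def, ← mem_map_iff_mem C.subtype_injective, map_commutator, ← MonoidHom.range_eq_map,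
      range_subtype]
    exact h
  rw [MonoidHom.mem_ker.1 (Abelianization.commutator_subset_ker _ m)] at e
  have m2 := mem_map_of_mem (C.subtype.comp (D.subgroupOf C).subtype)
    ((QuotientGroup.eq_one_iff _).1 e.symm)
  rw [commutator_def, map_commutator, ← map_map, ← MonoidHom.range_eq_map, range_subtype,
    subgroupOf_map_subtype, inf_eq_left.2 hD] at m2
  obtain ⟨k, hk⟩ := Nat.odd_iff.2 (Nat.two_dvd_ne_zero.1 ho)
  have p : y ^ (D.subgroupOf C).index = y := by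
    rw [show (D.subgroupOf C).index = 2 * k + 1 from hk, pow_succ, pow_mul, pow_two, h2, one_pow, one_mul]
  exact p ▸ m2

/-- the centraliser of `x 14` in `C0` -/
noncomputable abbrev D0 : Subgroup Gb := C0 ⊓ centralizer {x 14}

theorem odd_D : ¬ 2 ∣ D0.relIndex (centralizer {x 14}) := by
  have : Fact (Nat.Prime 2) := ⟨Nat.prime_two⟩
  have s : x 14 * x 14 = 1 := x_sq (by norm_num)
  have yC : x 14 ∈ centralizer {x 14} := mem_centralizer_singleton_iff.2 rfl
  obtain ⟨P, hP⟩ := (H70.isPGroup_zpowers (p := 2) (k := 1) (x := (⟨x 14, yC⟩ : centralizer {x 14}))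
    (Subtype.ext (by rw [pow_one, pow_two]; exact s))).exists_le_sylow
  obtain ⟨S, hS⟩ := (P.2.map (centralizer {x 14}).subtype).exists_le_sylow
  obtain ⟨g, hg⟩ := MulAction.exists_smul_eq Gb S
    (isPGroup_T.toSylow (relIndex_top_right T0 ▸ odd_relIndex_T le_top))
  have k : ∀ a ∈ P, g * (a : Gb) * g⁻¹ ∈ T0 := fun a ha => by
    have b : g * (a : Gb) * g⁻¹ ∈ g • S := smul_mem_pointwise_smul _ (MulAut.conj g) _ (hS ⟨a, ha, rfl⟩)
    rw [hg] at b
    exact b
  obtain ⟨c, hc, i, hi, e⟩ := cls_T (k _ (hP (mem_zpowers _))) (by rw [conj_mul, s, mul_one, mul_inv_cancel])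
    (fun e => x_ne_one (i := 14) (by norm_num) (by simpa using e))
  obtain rfl : i = 14 := by
    have a : IsConj (x 14) (x i) := (isConj_iff.2 ⟨g, rfl⟩).trans (isConj_iff.2 ⟨c, e⟩).symm
    rcases (by decide : ∀ i ∈ [0, 1, 3, 10, 14, 15], i = 0 ∨ i = 14 ∨ i ∈ [1, 3, 10, 15]) i hi with
      rfl | rfl | b
    exacts [absurd a not_conj, rfl, absurd (a.trans (fus_x b).1.symm) not_conj]
  have m : c⁻¹ * g ∈ centralizer {x 14} := mem_centralizer_singleton_iff.2 (by
    rw [show c⁻¹ * g * x 14 = c⁻¹ * (g * x 14 * g⁻¹) * g by group, ← show c * x 14 * c⁻¹ = _ from e]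
    group)
  have l : ((⟨_, m⟩ : centralizer {x 14}) • P : Sylow 2 _).1 ≤ D0.subgroupOf _ := by
    rintro _ ⟨a, ha, rfl⟩
    refine ⟨?_, Subtype.prop _⟩
    have := C0.mul_mem (C0.mul_mem (C0.inv_mem hc) (T_le_C (k a ha))) hc
    rw [show c⁻¹ * (g * a * g⁻¹) * c = c⁻¹ * g * a * (c⁻¹ * g)⁻¹ by group] at this
    exact this
  exact fun h => Sylow.not_dvd_index _ (h.trans (index_dvd_of_le l))

/-- an orbit of `D0` -/
def O : List ℕ := [0x7bb6b, 0x5de93dc, 0x95e5566, 0xc877dd1]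

/-- `q` fixes a vector and acts on `O` as a translation -/
noncomputable def W (q : ℕ) : Bool := band (Nat.beq (o28_act q 0x172dd69) 0x172dd69)
  (force (o28_act q 0x7bb6b) fun w => band (anyL (Nat.beq w) O)
    (allL (fun z => Nat.beq (o28_act q z) (Nat.xor (Nat.xor z w) 0x7bb6b)) O))

theorem scan_ok : allLt (fun a => force (tC_T a) (allT fun r =>
    bimp (Nat.beq (o28_act (nth XL 14) (o28_act r 0x1449e7e)) (o28_act r 0xdc458c4))
      (allE (fun q => bimp (o28.comm q (nth XL 14)) (W q)) r))) 15 = true := by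
  decide +kernel

theorem E_fix : E0 ≤ St rb bb 28 [0x1449e7e, 0xdc458c4] :=
  gE ▸ grp_le_St RuM.D act28 (by decide +kernel)

theorem scan {g : Gb} (hg : g ∈ D0) : Mv rb bb 28 g 0x172dd69 0x172dd69 ∧ ∃ w ∈ O,
    Mv rb bb 28 g 0x7bb6b w ∧ ∀ z ∈ O, Mv rb bb 28 g z (Nat.xor (Nat.xor z w) 0x7bb6b) := by
  have c := mem_centralizer_singleton_iff.1 hg.2
  have r14 := R_x (i := 14) (by norm_num)
  obtain ⟨t, q, r, p, ht⟩ := scanC scan_ok hg.1
  rw [bimp_eq_true, Nat.beq_eq] at p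
  obtain ⟨s, rs, a⟩ := of_allE (p (by
    have a := r.mv RuM.D act28 (x := 0x1449e7e) (by norm_num) rfl
    have b := r.mv RuM.D act28 (x := 0xdc458c4) (by norm_num) rfl
    have d := r14.mv RuM.D act28 a.1 rfl
    have f := (r14.mv RuM.D act28 (x := 0x1449e7e) (y := 0xdc458c4) (by norm_num) (by decide +kernel)).2
    have u := d.2.mul (a.2.mul (E_fix ht _ (by simp)))
    have v := (b.2.mul (E_fix ht _ (by simp))).mul f
    rw [mul_inv_cancel_left] at u v
    exact Mv.eq RuM.D u (c ▸ v) d.1 b.1)) r ht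
  simp only [W, bimp_eq_true, band_eq_true, force_eq, anyL_iff, allL_iff, Nat.beq_eq] at a
  obtain ⟨a, ⟨w, hw, e⟩, b⟩ := a ((snd.comm_iff rs r14).2 c)
  rw [e] at b
  exact ⟨(rs.mv RuM.D act28 (by norm_num) a).2, w, hw, (rs.mv RuM.D act28 (by norm_num) e).2, fun z hz =>
    (rs.mv RuM.D act28 ((by decide : ∀ z ∈ O, z < 2 ^ 28) z hz) (b z hz)).2⟩

theorem not_mem_D : x 14 ∉ ⁅D0, D0⁆ := fun h => by
  have l : ⁅D0, D0⁆ ≤ St rb bb 28 [0x7bb6b] := commutator_le.2 fun g hg k hk => by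
    obtain ⟨-, w, hw, a, b⟩ := scan (D0.inv_mem hg)
    obtain ⟨-, w', hw', a', b'⟩ := scan (D0.inv_mem hk)
    have u := (b w' hw').mul a'
    have v := (b' w hw).mul a
    rw [show Nat.xor w w' = Nat.xor w' w from Nat.xor_comm w w'] at v
    have := v.inv.mul u
    rw [show (k⁻¹ * g⁻¹)⁻¹ * (g⁻¹ * k⁻¹) = ⁅g, k⁆ by rw [commutatorElement_def]; group] at this
    exact mem_St_cons.2 ⟨this, fun _ h => absurd h List.not_mem_nil⟩
  have f := (R_x (i := 14) (by norm_num)).mv RuM.D act28 (x := 0x7bb6b) (y := 0xc877dd1) (by norm_num)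
    (by decide +kernel)
  exact absurd (Mv.eq RuM.D f.2 (mem_St_cons.1 (l h)).1 f.1 (by norm_num)) (by norm_num)

/-- images under `C0` of the vector fixed by `D0` -/
def CL : List ℕ := [0x172dd69, 0xdf21bd3, 0x31a70dd, 0x723049a, 0x364317, 0x82b3364, 0x9cb6f94, 0xf3e74e9,
  0x86e6a5c, 0x57d5175, 0xf9ab667, 0x98e36ac, 0xba3c220, 0xcb685ad, 0x4abf5de, 0x54ba92e, 0x3beb253,
  0x6860152, 0x1c38ab1, 0xe3fb3af, 0x25eeea3, 0xa439ed0, 0xd56d95d, 0xa06c7e8, 0x715fcc1, 0xbe69b18,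
  0x6679ae4, 0xc124723, 0xae75c5e, 0x96fad1a, 0x19346df]

/-- the tree of the orbit -/
def PL : List ℕ := [0, 65538, 65539, 65540, 65541, 65543, 65544, 65546, 65547, 65548, 65550, 65551, 131092,
  131093, 131095, 131096, 131098, 131099, 131100, 131103, 131109, 131111, 131114, 131115, 131116, 131119,
  131125, 131127, 131129, 131130, 131131]

theorem card_D : Nat.card D0 < 2 ^ 13 := by
  have a := injL_spec (c := nth CL) (m := 2 ^ 28) (N := 31) (by decide +kernel)
  have b := mv_of_trAt RuM.D act28 (par := nth PL) (allIn_sub (L := LC) (by decide)) a.1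
    (forall_of_allLt (by decide +kernel))
  rw [show nth CL 0 = 0x172dd69 by decide +kernel] at b
  have := le_card_of_mv RuM.D (H := C0) (J := D0) inf_le_left (fun g hg => mem_St_cons.2
    ⟨(scan hg).1, fun _ h => absurd h List.not_mem_nil⟩) a.1 a.2 b
  rw [card_C0] at this
  omega

theorem four_dvd : 4 ∣ (centralizer {x 14}).index := by
  have a := (centralizer {x 14}).card_mul_index
  have b := (D0.subgroupOf (centralizer {x 14})).card_mul_index
  rw [Nat.card_congr (subgroupOfEquivOfLe inf_le_right).toEquiv] at b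
  rw [← b, card_Gb, mul_right_comm] at a
  have c : 2 ^ 14 ∣ Nat.card D0 * (centralizer {x 14}).index :=
    (Nat.Coprime.pow_left 14 ((Nat.Prime.coprime_iff_not_dvd Nat.prime_two).2 odd_D)).dvd_of_dvd_mul_right
      (a.symm ▸ by norm_num)
  have d := card_D
  have p : 0 < Nat.card D0 := Nat.card_pos
  by_contra h
  have k : ∀ j, ¬ 2 ∣ j → 2 ^ 13 ∣ Nat.card D0 * j → False := fun j hj e => by
    have := Nat.le_of_dvd p
      ((Nat.Coprime.pow_left 13 ((Nat.Prime.coprime_iff_not_dvd Nat.prime_two).2 hj)).dvd_of_dvd_mul_right e)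
    omega
  by_cases o : 2 ∣ (centralizer {x 14}).index
  · obtain ⟨j, hj⟩ := o
    rw [hj, mul_left_comm, pow_succ'] at c
    exact k j (fun ⟨i, hi⟩ => h ⟨i, by omega⟩) (Nat.dvd_of_mul_dvd_mul_left two_pos c)
  · exact k _ o ((pow_dvd_pow 2 (by norm_num)).trans c)

theorem not_mem : x 14 ∉ ⁅centralizer {x 14}, centralizer {x 14}⁆ := fun h =>
  not_mem_D (mem_comm inf_le_right (mem_centralizer_singleton_iff.2 rfl)
    (fun _ hg => mem_centralizer_singleton_iff.1 hg) (x_sq (by norm_num)) odd_D h)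

theorem kf_Gb : H4.Q16.KF Gb := fun t ht => by
  refine (two_classes (H4.Q16.sq_of_ord ht) (H4.Q16.ne_of_ord ht)).imp (H71.KS.charP_conj H71.KS.charP_Ru)
    fun c => ?_
  obtain ⟨g, rfl⟩ := isConj_iff.1 c
  rw [← MulAut.conj_apply, ← H4.Q16.map_cent, index_map_of_bijective (MulAut.conj g).bijective,
    ← map_commutator]
  exact ⟨four_dvd, fun _ h => not_mem ((mem_map_iff_mem (MulAut.conj g).injective).1 h)⟩

end H84.KR

namespace H4.Q16
open Subgroup Cfsg H68

theorem kf_Ru : KF Spor.Ru := H84.KR.kf_Gb.congr H15.RuM.equivRu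

end H4.Q16
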