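import Mathlib
import Cfsg.Agent.Base
import Cfsg.Agent.Lib.Q16.EC0
import Cfsg.Agent.Lib.Q16.ECa
import Cfsg.Agent.Lib.Chain.Tools
import Cfsg.Agent.S0215

/-! The vertical pumpup: `z` does not centralise a Sylow 2-subgroup of `K`. -/

set_option autoImplicit false

namespace H4.Q16
open Subgroup Cfsg H68 EC0

variable {G : Type*} [Group G] [Finite G] {r : ℕ} {K M S S1 : Subgroup G} {z : G}

theorem KS.full (h : KS r K M S S1 z) (hS : S ≤ centralizer {z}) : KS r K M S S z := by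
  have n : S ≤ normalizer (M : Set G) := fun t ht => by
    have h1 := H44.IsComponentOf.cj_of_mem h.comp (le_normalizer ⟨h.syl.le ht, hS ht⟩)
    by_contra c
    have h2 := commutator_eq_bot_iff_le_centralizer.1
      (H44.IsComponentOf.commutator_eq_bot_of_ne h1 h.comp fun e => c (mem_normalizer_iff_cj.2 e))
    have h3 : cj t (S1 ⊓ M) ≤ S1 ⊓ centralizer (M : Set G) := by
      rw [cj_inf, cj_eq_of_mem_normalizer (h.nS ht)]
      exact inf_le_inf_left _ h2
    rw [h.faith, le_bot_iff, cj_eq_bot_iff] at h3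
    have h4 := h.two_dvd
    rw [h3, card_bot] at h4
    omega
  have e : S ⊓ M = S1 ⊓ M :=
    h.sM.eq_of_le h.syl.isPGroup.to_inf_left (inf_le_inf_right M h.le) inf_le_right
  exact ⟨h.nK, h.sK, h.naK, h.kf, h.gen, h.cK, h.oz, h.comp, h.th, h.zM, h.syl, h.zS, le_rfl,
    by rw [relIndex_self]; exact one_dvd 2, hS, n, e ▸ h.sM⟩

theorem KS.inv_mem (h : KS r K M S S z) {x : G} (hx : x ∈ S) (ox : orderOf x = 2) : x ∈ M := by
  by_contra c
  have := h.sK
  have p : commutator K = ⊤ := by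
    refine (commutator_normal (⊤ : Subgroup K) ⊤).eq_bot_or_eq_top.resolve_left fun e => h.naK ?_
    rw [commutator_eq_bot_iff_le_centralizer] at e
    exact ⟨⟨fun a b => e (mem_top b) a (mem_top a)⟩⟩
  obtain ⟨y, hy, hg⟩ := h.cyc
  have n : S ≤ normalizer ((S ⊓ M : Subgroup G) : Set G) :=
    H70.le_normalizer_inf le_normalizer h.nM
  have s1 : H69.IsSylowIn 2 S K := ⟨h.syl.le, h.syl.isPGroup, fun R a b d => h.syl.eq_of_le d a b⟩
  refine H72.Ch.transfer_cyclic p (D := (S ⊓ M).subgroupOf K) s1.subgroupOf_top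
    ⟨fun a ha => ha.1, fun a ha => mem_normalizer_iff.2 fun b => mem_normalizer_iff.1 (n ha) b⟩
    (x := ⟨y, h.syl.le hy⟩) hy (fun a ha => ?_) (t := ⟨x, h.syl.le hx⟩) (Subtype.ext (sq ox)) hx
    fun g hg => c ?_
  · obtain ⟨u, hu, _, ⟨k, rfl⟩, e⟩ := (mem_sup_of_le_normalizer' ((zpowers_le.2 hy).trans n)).1 (hg ha)
    rw [show a = ⟨u, h.syl.le hu.1⟩ * ⟨y, h.syl.le hy⟩ ^ k from Subtype.ext e]
    exact mul_mem_sup hu (zpow_mem_zpowers _ k)
  · have h1 := cp_conj h.nK ((h.cp_iff (x := g * x * (g : G)⁻¹) hg.1 (by rwa [ord_cj])).2 hg.2)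
      (g : G)⁻¹
    rw [show (g : G)⁻¹ * (g * x * (g : G)⁻¹) * (g : G)⁻¹⁻¹ = x by group] at h1
    exact (h.cp_iff hx ox).1 h1

theorem KS.isolated (h : KS r K M S S z) {g : G} (hg : g * z * g⁻¹ ∈ S ⊔ zpowers z) :
    g * z * g⁻¹ = z := by
  by_contra c
  have dec : ∀ g : G, g * z * g⁻¹ ∈ S ⊔ zpowers z → ∃ s ∈ S, s * s = 1 ∧ g * z * g⁻¹ = z * s := by
    intro g hg
    rcases h.mem_P hg with d | ⟨s, hs, d⟩
    · refine absurd ?_ h.zK
      simpa [mul_assoc] using h.nK.conj_mem _ (h.syl.le d) g⁻¹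
    · refine ⟨s, hs, ?_, d⟩
      have h1 : z * s * (z * s) = 1 := by rw [← d, conj_mul, h.zz]; simp
      rwa [mul_assoc, ← mul_assoc s, mc.1 (h.cz hs), mul_assoc, ← mul_assoc, h.zz, one_mul] at h1
  obtain ⟨s, hs, s2, e⟩ := dec g hg
  have os : orderOf s = 2 := ord2 s2 fun d => c (by rw [e, d, mul_one])
  have cz : S ⊔ zpowers z ≤ centralizer {z} := sup_le h.cz (zpowers_le.2 (mc.2 rfl))
  have pP := h.sylP.isPGroup
  have zn : S ⊔ zpowers z ≤ normalizer (S : Set G) := sup_le le_normalizer (zpowers_le.2 h.zS)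
  obtain ⟨c0, hc0, o0, h0⟩ := exists_inv_cent (A := S) pP zn (os ▸ orderOf_dvd_natCard _ hs)
  have ev : 2 ∣ Set.ncard {y | ∃ j ∈ normalizer ((S ⊔ zpowers z : Subgroup G) : Set G),
      j * z * j⁻¹ = y} := by
    refine even_ncard (ne1 o0) (sq o0) ?_
    rintro _ ⟨j, hj, rfl⟩
    have j1 := conj_mem_of_mem_normalizer hj (mem_sup_right (mem_zpowers z))
    obtain ⟨t, ht, t2, d⟩ := dec j j1
    by_cases q : t * c0 = 1
    · exact ⟨1, one_mem _, by rw [d, mul_assoc z t, q]; simp⟩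
    · have tc := mc.1 (h0 (mem_sup_left ht))
      have o1 : orderOf (t * c0) = 2 := ord2 (by
        rw [mul_assoc, ← mul_assoc c0, ← tc, mul_assoc, sq o0, mul_one, t2]) q
      obtain ⟨m, hm, e1⟩ := h.thM.conjA (h.inv_mem hs os) (h.inv_mem (mul_mem ht hc0) o1) os o1
      have e2 : m * g * z * (m * g)⁻¹ = j * z * j⁻¹ * c0 := by
        rw [d, mul_assoc z, ← e1, ← mul_assoc z, ← mul_assoc z, ← mc.1 (h.Mz hm), mul_assoc m z s,
          ← e]
        group
      have j2 : S ⊔ zpowers z ≤ centralizer {j * z * j⁻¹ * c0} := fun p hp => by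
        have a1 := cj_comm j (mc.1 (cz (conj_mem_of_mem_normalizer' hj hp)))
        rw [show j * (j⁻¹ * p * j) * j⁻¹ = p by group] at a1
        rw [mc, ← mul_assoc, a1, mul_assoc, mc.1 (h0 hp), ← mul_assoc]
      obtain ⟨n, -, hn, -, e3⟩ := burnside h.sylP cz j2 (mem_top _) e2
      exact ⟨n, hn, e3⟩
  rw [ncard_orbit] at ev
  exact (h.sylP.mono le_normalizer le_top).not_dvd_relIndex (ev.trans (relIndex_dvd_of_le_left _ cz))

theorem KS.not_le (h : KS r K M S S1 z) : ¬ S ≤ centralizer {z} := by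
  intro hS
  have h' := h.full hS
  obtain ⟨P, hP⟩ := h'.sylP.exists_sylow_top
  obtain ⟨N, n1, n2, n3⟩ := Cfsg.Agent.S0215.result P z h.oz
    (show z ∈ (P : Subgroup G) from hP ▸ mem_sup_right (mem_zpowers z))
    fun g hg => h'.isolated (hP ▸ hg)
  have := h.sK
  rcases (n1.subgroupOf K).eq_bot_or_eq_top with e | e
  · have h1 : ∀ g, z * g * z⁻¹ * g⁻¹ = 1 := fun g => by
      rw [← mem_bot, ← h.cK]
      exact fun k hk => (commute_of_normal_of_disjoint N K n1 h.nK (subgroupOf_eq_bot.1 e) _ k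
        (n3 g) hk).symm
    refine ne1 h.oz ?_
    rw [← mem_bot, ← h.cK]
    intro k _
    exact (mul_inv_eq_iff_eq_mul.1 (mul_inv_eq_one.1 (h1 k))).symm
  · have h1 := (h.two_dvd.trans (card_dvd_of_le (inf_le_right.trans h.MK))).trans
      (card_dvd_of_le (subgroupOf_eq_top.1 e))
    exact (Nat.not_even_iff_odd.2 n2) (even_iff_two_dvd.2 h1)

end H4.Q16
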