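import Mathlib
import Cfsg.Agent.Base
import Cfsg.Agent.Lib.Q16.EC1
import Cfsg.Agent.Lib.Q16.EC2

/-! The vertical pumpup inside `G`. -/

set_option autoImplicit false

namespace H4.Q16
open Subgroup Cfsg H68 EC0

namespace ECQ

variable {G : Type*} [Group G] [Finite G] {r : ℕ} {z : G} {A K S S1 : Subgroup G}

theorem ks (nK : K.Normal) (gen : K ⊔ zpowers z = ⊤) (q : IsQuasisimple K) (kf : KF (K ⧸ center K))
    (zz : z * z = 1) (zK : z ∉ centralizer (K : Set G)) (hA : IsComponentOf A (K ⊓ centralizer {z}))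
    (th : Th r (A ⧸ center A)) (zA : IsPGroup 2 (center A)) (syl : SylowIn 2 S K)
    (zS : z ∈ normalizer (S : Set G)) (le : S1 ≤ S) (idx : S1.relIndex S ∣ 2)
    (cz : S1 ≤ centralizer {z}) (nA : S1 ≤ normalizer (A : Set G)) (sA : SylowIn 2 (S1 ⊓ A) A) :
    ¬ S ≤ S1 ∧ ¬ Cen (A ⧸ center A) ∧ S1 ⊓ centralizer (A : Set G) ≤ centralizer (K : Set G) := by
  let π := QuotientGroup.mk' (centralizer (K : Set G))
  have su : Function.Surjective π := QuotientGroup.mk'_surjective _
  have ke : π.ker = centralizer (K : Set G) := QuotientGroup.ker_mk' _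
  have pf := H23.IsQuasisimple.commutator_self q
  obtain ⟨c1, ⟨c2⟩, c3⟩ := comp_map π (inf_le_left.trans ke.le)
    (by rw [normalizer_eq_top]; exact mem_top z) hA
  have E : (K ⧸ center K) ≃* K.map π := by
    refine (QuotientGroup.quotientMulEquivOfEq ?_).trans
      (QuotientGroup.quotientKerEquivOfSurjective _ (π.subgroupMap_surjective K))
    ext k
    rw [mem_center_iff, MonoidHom.mem_ker, Subtype.ext_iff]
    exact ⟨fun c => (QuotientGroup.eq_one_iff _).2 fun y hy => congrArg Subtype.val (c ⟨y, hy⟩),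
      fun c y => Subtype.ext ((QuotientGroup.eq_one_iff _).1 c y y.2)⟩
  have sK : IsSimpleGroup (K.map π) := haveI := q.2; E.symm.isSimpleGroup
  have cm : ∀ {U : Subgroup G} {x : G}, U ≤ centralizer {x} → U.map π ≤ centralizer {π x} := by
    rintro U x hU _ ⟨u, hu, rfl⟩
    rw [mc, ← map_mul, mc.1 (hU hu), map_mul]
  have k : KS r (K.map π) (A.map π) (S.map π) (S1.map π) (π z) := by
    refine ⟨nK.map π su, sK, fun c => ?_, kf.congr E, ?_, ?_, ord2 (by rw [← map_mul, zz, map_one])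
      fun c => zK (ke ▸ c), c1, th.congr c2.symm, c3 zA, syl.map π, ?_, map_mono le, ?_, cm cz,
      H70.map_normalizer_le π nA, ?_⟩
    · have h1 : ⁅K.map π, K.map π⁆ = ⊥ := commutator_eq_bot_iff_le_centralizer.2
        fun a ha b hb => congrArg Subtype.val (c.1.1 (⟨b, hb⟩ : K.map π) ⟨a, ha⟩)
      rw [← map_commutator, pf] at h1
      exact (nontrivial_iff_ne_bot _).1 inferInstance h1
    · rw [← MonoidHom.map_zpowers, ← Subgroup.map_sup, gen, map_top_of_surjective _ su]
    · have h1 : ⁅K, (centralizer (K.map π : Set _)).comap π⁆ ≤ centralizer (K : Set G) := by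
        refine le_trans ?_ ke.le
        rw [← Subgroup.map_eq_bot_iff, map_commutator, map_comap_eq_self_of_surjective su,
          commutator_comm, commutator_eq_bot_iff_le_centralizer]
      have h2 := commutator_commutator_eq_bot_of_rotate (H₁ := K) (H₂ := K)
        (commutator_eq_bot_iff_le_centralizer.2 h1)
        (commutator_eq_bot_iff_le_centralizer.2 (by rwa [commutator_comm]))
      rw [pf, commutator_comm, commutator_eq_bot_iff_le_centralizer] at h2
      have h3 := h2.trans ke.ge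
      rwa [← Subgroup.map_eq_bot_iff, map_comap_eq_self_of_surjective su] at h3
    · exact H70.map_normalizer_le π (zpowers_le.2 zS) (mem_map_of_mem π (mem_zpowers z))
    · refine (index_dvd_of_le ?_).trans
        ((index_map_dvd (S1.subgroupOf S) (π.subgroupMap_surjective S)).trans idx)
      rintro _ ⟨s, hs, rfl⟩
      exact mem_map_of_mem π hs
    · have h1 := sA.map π
      rwa [h1.eq_of_le ((syl.isPGroup.to_le le).map π).to_inf_left (map_inf_le _ _ _) inf_le_right]
  refine ⟨fun c => k.not_le (cm (c.trans cz)), fun c => k.not_cen k.not_le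
    ((c.congr c2.symm).congr (quot_equiv k.center_eq).some), fun x hx => ?_⟩
  refine ke.le ?_
  rw [MonoidHom.mem_ker, ← mem_bot, ← k.faith]
  refine ⟨mem_map_of_mem π hx.1, ?_⟩
  rintro _ ⟨a, ha, rfl⟩
  rw [← map_mul, hx.2 a ha, map_mul]

omit [Finite G] in
theorem sylow_sub {T H Y : Subgroup G} (h : SylowIn 2 T H) (hY : H ≤ Y) :
    SylowIn 2 (T.subgroupOf Y) (H.subgroupOf Y) := by
  refine ⟨fun x hx => h.le hx, isPGroup_subgroupOf h.isPGroup Y, fun Q q1 q2 q3 =>
    le_antisymm (fun x hx => ?_) q2⟩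
  refine (h.eq_of_le (q1.map Y.subtype) (fun t ht => ⟨⟨t, hY (h.le ht)⟩, q2 ht, rfl⟩) ?_).le
    (mem_map_of_mem _ hx)
  rintro _ ⟨y, hy, rfl⟩
  exact q3 hy

omit [Finite G] in
theorem norm_sub {U Y : Subgroup G} {y : Y} (h : (y : G) ∈ normalizer (U : Set G)) :
    y ∈ normalizer (U.subgroupOf Y : Set Y) :=
  mem_normalizer_iff.2 fun b => mem_normalizer_iff.1 h b

omit [Finite G] in
theorem cent_sub {Y : Subgroup G} {x y : Y} :
    x ∈ centralizer ({y} : Set Y) ↔ (x : G) ∈ centralizer ({(y : G)} : Set G) := by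
  rw [mc, mc, Subtype.ext_iff, coe_mul, coe_mul]

omit [Finite G] in
theorem cent_sub' {U Y : Subgroup G} (hU : U ≤ Y) {x : Y} :
    x ∈ centralizer (U.subgroupOf Y : Set Y) ↔ (x : G) ∈ centralizer (U : Set G) :=
  ⟨fun h u hu => congrArg Subtype.val (h ⟨u, hU hu⟩ hu), fun h u hu => Subtype.ext (h u hu)⟩

end ECQ

open ECQ

variable {G : Type*} [Group G] [Finite G] {r : ℕ} {T : Sylow 2 G} {z u e : G} {A B K S : Subgroup G}

theorem GS.ecq (h : GS r T z u A B) (oe : orderOf e = 2)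
    (hK : IsComponentOf K (centralizer {e})) (hAK : A ≤ K) (hz : z ∉ centralizer (K : Set G))
    (hn : (T : Subgroup G) ⊓ normalizer (A : Set G) ≤ normalizer (K : Set G))
    (hS : SylowIn 2 S (centralizer {e})) (hTS : (T : Subgroup G) ⊓ normalizer (A : Set G) ≤ S) :
    center A = ⊥ ∧ Dih A ∧ ¬ S ⊓ K ≤ (T : Subgroup G) ⊓ normalizer (A : Set G) ∧
      (T : Subgroup G) ⊓ normalizer (A : Set G) ⊓ K ⊓ centralizer (A : Set G) ≤
        centralizer (K : Set G) := by
  have zN := hn h.z_mem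
  have sK : SylowIn 2 (S ⊓ K) K := by
    refine H44.SubnIn.induction (P := fun K => SylowIn 2 (S ⊓ K) K) ?_
      (fun K L h1 h2 _ h3 => ?_) (H44.IsComponentOf.subnIn hK)
    · rwa [inf_eq_left.2 hS.le]
    · have := h3.inf_of_normal_le h2 h1
      rwa [inf_assoc, inf_eq_right.2 h1] at this
  set T1 := (T : Subgroup G) ⊓ normalizer (A : Set G) with hT1
  have i1 : (T1 ⊓ K).relIndex (S ⊓ K) ∣ 2 := by
    have a1 : Nat.card S ≤ Nat.card T := (sylowIn_top T).card_le hS.isPGroup le_top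
    have a2 := (T1.subgroupOf T).index_mul_card
    have a3 := (T1.subgroupOf S).index_mul_card
    rw [Nat.card_congr (subgroupOfEquivOfLe hTS).toEquiv] at a3
    rw [Nat.card_congr (subgroupOfEquivOfLe inf_le_left).toEquiv,
      show (T1.subgroupOf T).index = 2 from h.idx] at a2
    have a4 : T1.relIndex S ≤ 2 :=
      Nat.le_of_mul_le_mul_right (a3.le.trans (a1.trans a2.ge)) Nat.card_pos
    have a5 := (relIndex_le_of_le_right (H := T1) (inf_le_left : S ⊓ K ≤ S)
      index_ne_zero_of_finite).trans a4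
    have a6 : T1.relIndex (S ⊓ K) ≠ 0 := index_ne_zero_of_finite
    rw [show T1 ⊓ K = T1 ⊓ (S ⊓ K) by rw [← inf_assoc, inf_eq_left.2 hTS], inf_relIndex_right]
    generalize T1.relIndex (S ⊓ K) = k at a5 a6
    interval_cases k <;> simp_all
  have KY : K ≤ K ⊔ zpowers z := le_sup_left
  have zY : z ∈ K ⊔ zpowers z := mem_sup_right (mem_zpowers z)
  have YN : K ⊔ zpowers z ≤ normalizer (K : Set G) := sup_le le_normalizer (zpowers_le.2 zN)
  have gen : K.subgroupOf (K ⊔ zpowers z) ⊔ zpowers ⟨z, zY⟩ = ⊤ := by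
    apply map_injective (K ⊔ zpowers z).subtype_injective
    rw [Subgroup.map_sup, map_subgroupOf_eq_of_le KY, MonoidHom.map_zpowers,
      ← MonoidHom.range_eq_map, range_subtype]
    rfl
  generalize K ⊔ zpowers z = Y at KY zY YN gen
  have eK := subgroupOfEquivOfLe KY
  have eA := subgroupOfEquivOfLe (hAK.trans KY)
  have qs : ∀ {U : Subgroup G}, U ≤ Y → IsQuasisimple U → IsQuasisimple (U.subgroupOf Y) :=
    fun hU q => (H23.isQuasisimple_map_iff Y.subtype_injective _).1 (by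
      rwa [map_subgroupOf_eq_of_le hU])
  have cA : IsComponentOf (A.subgroupOf Y) (K.subgroupOf Y ⊓ centralizer {⟨z, zY⟩}) := by
    have a1 := H44.IsComponentOf.of_le h.cA (le_inf hAK h.cA.1) inf_le_right
    have a2 := (H44.IsComponentOf.subnIn a1).subgroupOf Y
    rw [show (K ⊓ centralizer {z}).subgroupOf Y = K.subgroupOf Y ⊓ centralizer {⟨z, zY⟩} from
      Subgroup.ext fun x => by rw [mem_inf, cent_sub]; rfl] at a2
    exact H44.isComponentOf_iff.2 ⟨a2, qs (hAK.trans KY) (H44.IsComponentOf.isQuasisimple a1)⟩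
  have sA : SylowIn 2 ((T1 ⊓ K).subgroupOf Y ⊓ A.subgroupOf Y) (A.subgroupOf Y) := by
    have a1 := sylow_sub h.sylA (hAK.trans KY)
    rwa [show ((T : Subgroup G) ⊓ A).subgroupOf Y = (T1 ⊓ K).subgroupOf Y ⊓ A.subgroupOf Y from
      Subgroup.ext fun x => ⟨fun c => ⟨⟨⟨c.1, le_normalizer c.2⟩, hAK c.2⟩, c.2⟩,
        fun c => ⟨c.1.1.1, c.2⟩⟩] at a1
  obtain ⟨k1, k2, k3⟩ := ks (S := (S ⊓ K).subgroupOf Y) (S1 := (T1 ⊓ K).subgroupOf Y)
    ((normal_subgroupOf_iff_le_normalizer KY).2 YN) gen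
    (qs KY (H44.IsComponentOf.isQuasisimple hK)) ((h.kf e oe K hK).congr (quot_congr eK.symm).some)
    (Subtype.ext (sq h.oz)) (fun c => hz ((cent_sub' KY).1 c)) cA
    (h.th.congr (quot_congr eA.symm).some) (h.zA.of_equiv (centerCongr eA.symm)) (sylow_sub sK KY)
    (norm_sub (H70.le_normalizer_inf (hTS.trans le_normalizer) hn h.z_mem))
    (fun x hx => ⟨hTS hx.1, hx.2⟩) (by rwa [relIndex_subgroupOf (inf_le_right.trans KY)])
    (fun x hx => cent_sub.2 (h.zc hx.1.1)) (fun x hx => norm_sub hx.1.2) sA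
  have k4 : ¬ Cen (A ⧸ center A) := fun c => k2 (c.congr (quot_congr eA.symm).some)
  have k5 : center A = ⊥ := by
    by_contra c
    exact k4 (h.cov c).2.1
  refine ⟨k5, (h.th.syl.resolve_left k4).congr (quot_equiv k5).some, fun c => k1 fun x hx =>
    ⟨c hx, hx.2⟩, fun x hx => ?_⟩
  exact (cent_sub' KY).1 (k3 (x := ⟨x, KY hx.1.2⟩) ⟨hx.1, (cent_sub' (hAK.trans KY)).2 hx.2⟩)

end H4.Q16
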