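import Mathlib
import Cfsg.Agent.Base
import Cfsg.Agent.Lib.Q16.ECQ
import Cfsg.Agent.Lib.Q16.E8
import Cfsg.Agent.S1322
import Cfsg.Agent.S0204

/-! No proper pumpup over an involution centralising `N_T(A)`. -/

set_option autoImplicit false

namespace H4.Q16
open Subgroup Cfsg H68

variable {G : Type*} [Group G] [Finite G] {r : ℕ} {T : Sylow 2 G} {z u e : G} {A B K S : Subgroup G}

theorem ECG.idx (h : GS r T z u A B) (hS : IsPGroup 2 S)
    (hTS : (T : Subgroup G) ⊓ normalizer (A : Set G) ≤ S) {a b : G} (ha : a ∈ S) (hb : b ∈ S) :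
    a ∈ (T : Subgroup G) ⊓ normalizer (A : Set G) ∨ b ∈ (T : Subgroup G) ⊓ normalizer (A : Set G) ∨
      a * b ∈ (T : Subgroup G) ⊓ normalizer (A : Set G) := by
  have := Fact.mk Nat.prime_two
  have hi := h.idx
  have hle : (T : Subgroup G) ⊓ normalizer (A : Set G) ≤ T := inf_le_left
  generalize (T : Subgroup G) ⊓ normalizer (A : Set G) = T1 at hTS hi hle ⊢
  have c1 : Nat.card T1 * T1.relIndex T = Nat.card T := by
    rw [← card_mul_index (T1.subgroupOf T), Nat.card_congr (subgroupOfEquivOfLe hle).toEquiv]; rfl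
  rw [hi] at c1
  have c2 : Nat.card T1 * T1.relIndex S = Nat.card S := by
    rw [← card_mul_index (T1.subgroupOf S), Nat.card_congr (subgroupOfEquivOfLe hTS).toEquiv]; rfl
  have c3 := (sylowIn_top T).card_le hS le_top
  by_cases e1 : T1.relIndex S = 1
  · exact .inl (relIndex_eq_one.1 e1 ha)
  have e2 : T1.relIndex S ≠ 0 := index_ne_zero_of_finite
  have e3 : T1.relIndex S ≤ 2 := Nat.le_of_mul_le_mul_left (c2 ▸ c1 ▸ c3) Nat.card_pos
  have := mul_mem_iff_of_index_two (H := T1.subgroupOf S) (show T1.relIndex S = 2 by omega)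
    (a := ⟨a, ha⟩) (b := ⟨b, hb⟩)
  simp only [mem_subgroupOf, coe_mul] at this
  tauto

theorem ECG.diag (q : IsQuasisimple K) (hS : SylowIn 2 S K)
    (h : ∀ a ∈ S, ∀ b ∈ S, a ∈ centralizer (K : Set G) ∨ b ∈ centralizer (K : Set G) ∨
      a * b ∈ centralizer (K : Set G)) : False := by
  classical
  have := Fact.mk Nat.prime_two
  have := q.2
  obtain ⟨E, hE⟩ := Cfsg.Agent.S0204.result (G := K ⧸ center K) fun c =>
    H23.IsQuasisimple.quotient_not_isMulCommutative q inferInstance
  have hP := (sylowIn_top hS.toSylow).map (QuotientGroup.mk' (center K))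
  rw [map_top_of_surjective _ (QuotientGroup.mk'_surjective _), hS.coe_toSylow] at hP
  have c := hP.card_le (Q := E) (IsPGroup.of_card (n := 2) hE.card_four) le_top
  have := Fintype.ofFinite ((S.subgroupOf K).map (QuotientGroup.mk' (center K)))
  rw [hE.card_four, Nat.card_eq_fintype_card] at c
  obtain ⟨⟨_, a, ha, rfl⟩, ⟨_, b, hb, rfl⟩, ⟨_, c, hc, rfl⟩, n1, n2, n3⟩ :=
    Fintype.two_lt_card_iff.1 (lt_of_lt_of_le (by norm_num) c)
  have k : ∀ {x y : K}, (x : G)⁻¹ * y ∈ centralizer (K : Set G) →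
      QuotientGroup.mk' (center K) x = QuotientGroup.mk' (center K) y := fun m =>
    QuotientGroup.eq.2 (mem_center_iff.2 fun g => Subtype.ext (m g g.2))
  rcases h _ (S.mul_mem (S.inv_mem ha) hb) _ (S.mul_mem (S.inv_mem hb) hc) with m | m | m
  · exact n1 (Subtype.ext (k m))
  · exact n3 (Subtype.ext (k m))
  · exact n2 (Subtype.ext (k (by simpa only [mul_assoc, mul_inv_cancel_left, subtype_apply] using m)))

theorem GS.ec (h : GS r T z u A B) (oe : orderOf e = 2) (hA : A ≤ centralizer {e})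
    (hT : (T : Subgroup G) ⊓ normalizer (A : Set G) ≤ centralizer {e}) :
    IsComponentOf A (centralizer {e}) := by
  have := Fact.mk Nat.prime_two
  have hO := h.core e oe
  have ecq := fun K S => h.ecq (K := K) (S := S) oe
  generalize centralizer ({e} : Set G) = X at hA hT hO ecq ⊢
  have hz : z ∈ X := hT h.z_mem
  have e1 : (centralizer {z} : Subgroup G).subgroupOf X = centralizer {(⟨z, hz⟩ : X)} := by
    ext x
    simp only [mem_subgroupOf, mem_centralizer_singleton_iff, Subtype.ext_iff, coe_mul]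
  have h1 : IsComponentOf (A.subgroupOf X) (centralizer {(⟨z, hz⟩ : X)}) := e1 ▸
    H44.isComponentOf_iff.2 ⟨(H44.IsComponentOf.subnIn h.cA).subgroupOf X,
      H23.IsQuasisimple.of_mulEquiv (subgroupOfEquivOfLe hA).symm (H44.IsComponentOf.isQuasisimple h.cA)⟩
  obtain ⟨D, hD, hc⟩ := Cfsg.Agent.S1322.result (H44.pLayer_eq_layer hO) (⟨z, hz⟩ : X)
    (by rw [orderOf_mk, h.oz]) _ h1.1 h1.2
  have hK : IsComponentOf (D.map X.subtype) X := H44.isComponentOf_iff.2 ⟨H44.SubnIn.map_subtype hD.1,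
    H23.IsQuasisimple.of_mulEquiv (D.equivMapOfInjective _ X.subtype_injective) hD.2⟩
  obtain ⟨S, hS, hTS⟩ := exists_sylowIn_ge (T.isPGroup'.to_le inf_le_left) hT
  rcases hc with c | ⟨c, c2⟩ | ⟨c, -⟩
  · rwa [← c, map_subgroupOf_eq_of_le hA] at hK
  · have hAK : A ≤ D.map X.subtype := map_subgroupOf_eq_of_le hA ▸ map_mono c.le
    have hzK : z ∉ centralizer (D.map X.subtype : Set G) := fun m => by
      have : ⁅D, zpowers (⟨z, hz⟩ : X)⁆ = ⊥ := by
        rw [commutator_comm, commutator_eq_bot_iff_le_centralizer, zpowers_le]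
        exact fun d hd => Subtype.ext (m d (mem_map_of_mem _ hd))
      exact not_lt_bot (c.trans_eq (c2.trans this))
    have hn : (T : Subgroup G) ⊓ normalizer (A : Set G) ≤ normalizer (D.map X.subtype : Set G) := fun s hs => by
      refine mem_normalizer_iff_cj.2 (by_contra fun n => H44.IsComponentOf.not_le_centralizer h.cA ?_)
      refine le_trans ?_ ((commutator_eq_bot_iff_le_centralizer.1 (H44.IsComponentOf.commutator_eq_bot_of_ne
        (H44.IsComponentOf.cj_of_mem hK (le_normalizer (hT hs))) hK n)).trans (centralizer_le hAK))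
      exact (cj_eq_of_mem_normalizer hs.2).ge.trans (cj_mono s hAK)
    obtain ⟨hZ, hDih, hle, hc⟩ := ecq _ S hK hAK hzK hn hS hTS
    obtain ⟨t, ht, ht'⟩ := SetLike.not_le_iff_exists.1 hle
    exact (h.e8 hZ hDih hAK hn hS.isPGroup hTS ht.1 ht.2 ht' hc).elim
  · have hT' := H44.isComponentOf_top_iff.2 hD
    have cc := commutator_eq_bot_iff_le_centralizer.1 (H44.IsComponentOf.commutator_eq_bot_of_ne
      (H44.IsComponentOf.cj_of_mem hT' (g := ⟨z, hz⟩) (le_normalizer (mem_top _))) hT' c)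
    have hS0 : SylowIn 2 (S ⊓ D.map X.subtype) (D.map X.subtype) := by
      refine H44.SubnIn.induction (P := fun K => SylowIn 2 (S ⊓ K) K) ?_
        (fun K L h1 h2 _ h3 => ?_) (H44.IsComponentOf.subnIn hK)
      · rwa [inf_eq_left.2 hS.le]
      · have := h3.inf_of_normal_le h2 h1
        rwa [inf_assoc, inf_eq_right.2 h1] at this
    have k : ∀ {s}, s ∈ D.map X.subtype → s ∈ (T : Subgroup G) ⊓ normalizer (A : Set G) →
        s ∈ centralizer (D.map X.subtype : Set G) := by
      rintro _ ⟨d, hd, rfl⟩ hs _ ⟨x, hx, rfl⟩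
      refine congrArg Subtype.val (cc (mem_cj.2 ?_) x hx)
      rwa [show (⟨z, hz⟩ : X)⁻¹ * d * ⟨z, hz⟩ = d from Subtype.ext (by
        change z⁻¹ * (d : G) * z = d
        rw [mul_assoc, show (d : G) * z = z * d from mem_centralizer_singleton_iff.1 (h.zc hs.1),
          inv_mul_cancel_left])]
    exact (ECG.diag (H44.IsComponentOf.isQuasisimple hK) hS0 fun a ha b hb =>
      (ECG.idx h hS.isPGroup hTS ha.1 hb.1).imp (k ha.2) (Or.imp (k hb.2) (k (mul_mem ha.2 hb.2)))).elim

end H4.Q16
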