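import Cfsg.Agent.Lib.KSp.CoA

/-! Characteristic two from a stabiliser chain of a normal 2-subgroup. -/

set_option autoImplicit false

namespace H4.Q16.KC
open Subgroup Cfsg H54 H71.KS

variable {G Ω : Type*} [Group G] [Finite G]

theorem charP_of_wit {C R : Subgroup G} (hR : IsPGroup 2 R) (h1 : R ≤ C) (h2 : C ≤ normalizer (R : Set G))
    (h : ∀ p : ℕ, p.Prime → p ∣ Nat.card C → p = 2 ∨ ¬ p ^ 2 ∣ Nat.card C ∧
      ∃ y ∈ C, orderOf y = p ∧ y ∉ centralizer (R : Set G)) : H70.CharP 2 C :=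
  charP_of_normal hR h1 h2 (H70.isPGroup_of_forall_coprime fun x hx co => by_contra fun n => by
    obtain ⟨p, hp, d⟩ := Nat.exists_prime_and_dvd fun e => n (orderOf_eq_one_iff.1 e)
    have o := orderOf_pow_orderOf_div (orderOf_pos x).ne' d
    have m := pow_mem hx (orderOf x / p)
    rcases h p hp (o ▸ orderOf_dvd_natCard _ m.1) with rfl | ⟨h3, y, hy, oy, ny⟩
    · exact Nat.prime_two.one_lt.ne' (Nat.eq_one_of_dvd_coprimes co d dvd_rfl)
    · obtain ⟨g, hg⟩ := conj_zpowers (H := C) hp h3 (x := ⟨_, m.1⟩) (y := ⟨y, hy⟩)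
        (by rw [orderOf_mk, o]) (by rw [orderOf_mk, oy])
      exact ny ((hg ▸ zpowers_le.2 (mem_subgroupOf.2 ((mem_normalizer_iff.1
        (H70.normalizer_le_normalizer_centralizer R (h2 g.2)) _).1 m.2)) :
          zpowers (⟨y, hy⟩ : C) ≤ (centralizer (R : Set G)).subgroupOf C) (mem_zpowers _)))

/-- an element of order `q.1` of the group which does not commute with an element of the subgroup -/
noncomputable def wChk (c : Cfg) (chJ chR : H54.Chain) (q : ℕ × ℕ × ℕ) : Bool :=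
  band (memb c chJ q.2.1) (band (Nat.beq (ordc c q.2.1) q.1)
    (band (memb c chR q.2.2) (bnot (commutes c q.2.1 q.2.2))))

/-- the whole check -/
noncomputable def nChk (c : Cfg) (chJ chR : H54.Chain) (W : List (ℕ × ℕ × ℕ)) : Bool :=
  band (allL (memb c chJ) chJ.gens) (band (allL (memb c chJ) chR.gens)
    (band (allL (fun g => allL (fun r => memb c chR (conjc c g r)) chR.gens) chJ.gens)
      (allL (wChk c chJ chR) W)))

variable [MulAction G Ω] {c : Cfg} {pt : ℕ → Ω}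

theorem charP_chain (X : Ctx c pt) (hK : Kfix G c pt = ⊥) {chJ chR : H54.Chain} {C : Subgroup G}
    (aJ : Good c pt chJ C) (lJ : checkLow c chJ = true) (low : checkLow c chR = true)
    (up : checkUp c chR = true) {k m : ℕ} (sR : chR.size c.n = 2 ^ k) (sJ : chJ.size c.n = m)
    {W : List (ℕ × ℕ × ℕ)} (h : nChk c chJ chR W = true)
    (hP : ∀ p ∈ m.primeFactorsList, p = 2 ∨ ¬ p ^ 2 ∣ m ∧ p ∈ W.map (·.1)) : H70.CharP 2 C := by
  simp only [nChk, band_eq_true] at h
  obtain ⟨h0, h1, h2, h3⟩ := h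
  have i0 := aJ.all_in X h0
  have i1 := aJ.all_in X h1
  have aR := good_of_check X (valid_of_in i1) low up
  have cJ := (aJ.card X hK).trans sJ
  refine charP_of_wit (IsPGroup.of_card ((aR.card X hK).trans sR)) (grp_le aJ.K_le i1) ?_ fun p hp d => ?_
  · rw [← (aJ.base_change X i0 lJ le_rfl).2]
    refine grp_le (hK ▸ bot_le) fun s hs => ?_
    obtain ⟨g, -, rg⟩ := i0 s hs
    refine ⟨g, mem_normalizer_fintype fun _ hn => grp_le
      (H := (grp G c pt chR.gens).comap (MulAut.conj g).toMonoidHom) (hK ▸ bot_le) (fun r hr => ?_) hn, rg⟩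
    obtain ⟨x, -, rx⟩ := i1 r hr
    exact ⟨x, aR.mem_of_memb X ((allL_iff _ _).1 ((allL_iff _ _).1 h2 s hs) r hr) (rg.conj X rx), rx⟩
  · rw [cJ] at d ⊢
    refine (hP p ((Nat.mem_primeFactorsList (cJ ▸ Nat.card_pos.ne')).2 ⟨hp, d⟩)).imp_right
      fun ⟨h4, h5⟩ => ⟨h4, ?_⟩
    obtain ⟨q, hq, rfl⟩ := List.mem_map.1 h5
    have := (allL_iff _ _).1 h3 q hq
    simp only [wChk, band_eq_true, bnot_eq_true, Nat.beq_eq] at this
    obtain ⟨y, hy, ry⟩ := aJ.in_of_memb X this.1
    obtain ⟨x, hx, rx⟩ := aR.in_of_memb X this.2.2.1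
    exact ⟨y, hy, (ry.orderOf_eq X hK).trans this.2.1, fun e =>
      this.2.2.2 ((ry.commutes_iff X hK rx).2 (e x hx).symm)⟩

omit [Finite G] in
/-- from the ambient group to the subgroup -/
theorem charP_sub {H : Subgroup G} {x : H} (h : H70.CharP 2 (H ⊓ centralizer {(x : G)})) :
    H70.CharP 2 (centralizer ({x} : Set H)) := by
  rw [← H70.charP_map_iff H.subtype_injective]
  convert h using 1
  ext y
  refine ⟨?_, fun ⟨h1, h2⟩ => ⟨⟨y, h1⟩, mem_centralizer_singleton_iff.2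
    (Subtype.ext (mem_centralizer_singleton_iff.1 h2)), rfl⟩⟩
  rintro ⟨y, hy, rfl⟩
  exact ⟨y.2, mem_centralizer_singleton_iff.2 (congrArg Subtype.val (mem_centralizer_singleton_iff.1 hy))⟩

theorem force_KC : True := by
  have := @wChk.eq_1
  have := @nChk.eq_1
  trivial

end H4.Q16.KC
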