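import Mathlib
import Cfsg.Agent.Base
import Cfsg.Agent.Lib.Q16.ECG

/-! The simple case: local structure of the pair. -/

set_option autoImplicit false

namespace H4.Q16
open Subgroup Cfsg H68

variable {G : Type*} [Group G] [Finite G] {r : ℕ} {T : Sylow 2 G} {z u y : G} {A B X Y : Subgroup G}

omit [Finite G] in
theorem P1.th (h : GS r T z u A B) (hZ : center A = ⊥) : Th r A := h.th.congr (quot_equiv hZ).some

omit [Finite G] in
theorem P1.thB (h : GS r T z u A B) (hZ : center A = ⊥) : Th r B :=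
  h.uA ▸ (P1.th h hZ).congr (cjEquiv u A)

theorem P1.rk (h : GS r T z u A B) (hZ : center A = ⊥) :
    ¬ r ∣ Nat.card (centralizer (A : Set G) ⊓ centralizer (B : Set G) : Subgroup G) := fun hd => by
  have tA := P1.th h hZ
  have tB := P1.thB h hZ
  have := Fact.mk tA.pr
  obtain ⟨⟨x, hx⟩, ox⟩ := exists_prime_orderOf_dvd_card' r hd
  rw [orderOf_mk] at ox
  obtain ⟨Q, hQ, a, ha, q0, q2, oa, an⟩ := tA.locA
  obtain ⟨-, -, b, hb, -, -, ob, -⟩ := tB.locA
  have cQ : centralizer (A : Set G) ≤ normalizer (Q : Set G) :=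
    (centralizer_le hQ).trans (centralizer_le_normalizer _)
  have n1 : ∀ {c : G}, orderOf c = r → c ≠ 1 := fun o e => tA.pr.ne_one (by rw [← o, e, orderOf_one])
  refine rank3 tA.pr (h.rank q2 q0) an (cQ (h.symm.comm hb)) (cQ hx.1) (Bas2.cent (h.symm.comm hb) ha)
    (Bas2.cent hx.1 ha) (Bas2.cent hx.2 hb) (oa ▸ pow_orderOf_eq_one a) (ob ▸ pow_orderOf_eq_one b)
    (ox ▸ pow_orderOf_eq_one x) A (A ⊔ B) (n1 oa) ha
    (fun m => n1 ob (mem_bot.1 (tA.inf_cent.le ⟨m, h.symm.comm hb⟩))) (mem_sup_left ha) (mem_sup_right hb)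
    fun m => n1 ox ?_
  obtain ⟨c, hc, d, hd, rfl⟩ := (mem_sup_of_le_normalizer (h.comm.trans (centralizer_le_normalizer _))).1 m
  rw [mem_bot.1 (tA.inf_cent.le ⟨hc, ((centralizer _).mul_mem_cancel_right (h.symm.comm hd)).1 hx.1⟩),
    mem_bot.1 (tB.inf_cent.le ⟨hd, ((centralizer _).mul_mem_cancel_left (h.comm hc)).1 hx.2⟩), mul_one]

theorem P1.ex (h : GS r T z u A B) (hZ : center A = ⊥) : ∃ y ∈ A, orderOf y = 2 ∧
    (T : Subgroup G) ⊓ normalizer (A : Set G) ≤ centralizer {y} ∧ IsComponentOf B (centralizer {y}) := by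
  obtain ⟨y, hy, oy, hc⟩ := exists_inv_cent (T.isPGroup'.to_le (inf_le_left (b := normalizer (A : Set G))))
    inf_le_right ((by norm_num : 2 ∣ 4).trans (P1.th h hZ).four_dvd)
  exact ⟨y, hy, oy, hc, h.symm.ec oy (H70.le_centralizer_singleton_iff.2 (h.comm hy)) (h.inf_eq ▸ hc)⟩

theorem P1.uniq (h : GS r T z u A B) (hZ : center A = ⊥) (hB : IsComponentOf B X) {g : G}
    (hg : g ∈ normalizer (X : Set G))
    (hc : cj g B ≤ centralizer (B : Set G) → cj g B ≤ centralizer (A : Set G)) :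
    g ∈ normalizer (B : Set G) := by
  refine mem_normalizer_iff_cj.2 (by_contra fun n => P1.rk h hZ ?_)
  have c := commutator_eq_bot_iff_le_centralizer.1
    (H44.IsComponentOf.commutator_eq_bot_of_ne (H44.IsComponentOf.cj_of_mem hB hg) hB n)
  exact (card_cj g B ▸ (P1.thB h hZ).dvd).trans (card_dvd_of_le (le_inf (hc c) c))

theorem P1.le (h : GS r T z u A B) (hZ : center A = ⊥) :
    normalizer (A : Set G) ≤ normalizer (B : Set G) := fun g hg => by
  obtain ⟨y, hy, -, -, hB⟩ := P1.ex h hZ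
  have hB' := H44.IsComponentOf.of_le hB h.symm.comm (centralizer_le (Set.singleton_subset_iff.2 hy))
  have hg' := normalizer_le_normalizer_centralizer A hg
  exact P1.uniq h hZ hB' hg' fun _ => (H44.IsComponentOf.cj_of_mem hB' hg').1

theorem P1.nn (h : GS r T z u A B) (hZ : center A = ⊥) :
    normalizer (A : Set G) = normalizer (B : Set G) :=
  le_antisymm (P1.le h hZ) (P1.le h.symm (P1.thB h hZ).center_eq)

theorem P1.cA (h : GS r T z u A B) (hZ : center A = ⊥) (a : G) (ha : a ∈ A) (oa : orderOf a = 2) :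
    centralizer {a} ≤ normalizer (A : Set G) := by
  obtain ⟨y, hy, oy, -, hB⟩ := P1.ex h hZ
  obtain ⟨c, hc, rfl⟩ := (P1.th h hZ).conjA hy ha oy oa
  rw [← H44.cj_centralizer_singleton]
  refine cj_le_of_mem (le_normalizer hc) fun g hg => P1.nn h hZ ▸ ?_
  have h1 := H44.IsComponentOf.cj_of_mem hB (le_normalizer hg)
  exact P1.uniq h hZ hB (le_normalizer hg) fun c => (P1.th h hZ).perf_cent (H44.IsComponentOf.perfect h1)
    (P1.nn h hZ ▸ c.trans (centralizer_le_normalizer _)) hy oy h1.1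

omit [Finite G] in
theorem P1.cent (h : GS r T z u A B) (hy : y ∈ A)
    (hc : (T : Subgroup G) ⊓ normalizer (A : Set G) ≤ centralizer {y}) :
    (T : Subgroup G) ≤ centralizer {y * (u * y * u⁻¹)} := by
  have k : ∀ {t}, t ∈ (T : Subgroup G) → cj t A = A → t * y * t⁻¹ = y := fun m e =>
    mul_inv_eq_iff_eq_mul.2 (mem_centralizer_singleton_iff.1 (hc ⟨m, mem_normalizer_iff_cj.2 e⟩))
  have iu := (T : Subgroup G).inv_mem h.uT
  intro t ht
  rw [mem_centralizer_singleton_iff, ← mul_inv_eq_iff_eq_mul, ← conj_mul]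
  rcases h.cz (h.zc ht) with ⟨a, b⟩ | ⟨a, b⟩
  · have := k (mul_mem (mul_mem iu ht) h.uT) (by rw [cj_mul, cj_mul, h.uA, b, Bas2.inv_cj h.uA])
    rw [k ht a]
    calc _ = y * (u * (u⁻¹ * t * u * y * (u⁻¹ * t * u)⁻¹) * u⁻¹) := by group
      _ = _ := by rw [this]
  · have h1 := k (mul_mem iu ht) (by rw [cj_mul, a, Bas2.inv_cj h.uA])
    have h2 := k (mul_mem ht h.uT) (by rw [cj_mul, h.uA, b])
    rw [Bas2.cent (h.symm.comm (h.uA ▸ conj_mem_cj.2 hy)) hy]
    calc _ = u * (u⁻¹ * t * y * (u⁻¹ * t)⁻¹) * u⁻¹ * (t * u * y * (t * u)⁻¹) := by group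
      _ = _ := by rw [h1, h2]

theorem GS.pr (h : GS r T z u A B) (hZ : center A = ⊥) : Pr r A B := by
  have := Fact.mk Nat.prime_two
  refine ⟨P1.th h hZ, rank_congr h.cyc (quot_equiv hZ).some, ⟨u, h.uA, h.uB⟩, h.comm, P1.nn h hZ, P1.cA h hZ,
    P1.rk h hZ, fun a ha x hx v hv ox ov c => ?_⟩
  obtain ⟨y, hy, oy, hc, -⟩ := P1.ex h hZ
  have hy' : u * y * u⁻¹ ∈ B := h.uA ▸ conj_mem_cj.2 hy
  have oy' := (Bas2.ord_cj u y).trans oy
  have hT := P1.cent h hy hc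
  generalize u * y * u⁻¹ = y' at hy' oy' hT
  obtain ⟨c1, h1, rfl⟩ := (P1.th h hZ).conjA hy hx oy ox
  obtain ⟨c2, h2, rfl⟩ := (P1.thB h hZ).conjA hy' hv oy' ov
  have cm : ∀ {p q}, p ∈ A → q ∈ B → Commute p q := fun hp hq => Bas2.cent (h.symm.comm hq) hp
  have e : c1 * y * c1⁻¹ * (c2 * y' * c2⁻¹) = c1 * c2 * (y * y') * (c1 * c2)⁻¹ := by
    rw [mul_assoc (c1 * y), (cm (A.inv_mem h1) hv).eq, mul_assoc c1 c2, ← mul_assoc c2 y, ← (cm hy h2).eq]
    group
  obtain ⟨g, rfl⟩ := isConj_iff.1 ((isConj_iff.2 ⟨_, e.symm⟩).trans c.symm)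
  have ow : orderOf (y * y') = 2 := ord_two (by
    rw [← pow_two, (cm hy hy').mul_pow, pow_two, pow_two, sq_of_ord oy, sq_of_ord oy', mul_one]) fun e =>
      ne_of_ord oy (mem_bot.1 ((P1.th h hZ).inf_cent.le
        ⟨hy, eq_inv_of_mul_eq_one_left e ▸ (centralizer _).inv_mem (h.symm.comm hy')⟩))
  have h3 : cj g T ≤ normalizer (A : Set G) := ((cj_mono g hT).trans (H44.cj_centralizer_singleton g _).le).trans
    (P1.cA h hZ _ ha ((Bas2.ord_cj g _).trans ow))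
  have h4 : SylowIn 2 (cj g T) ⊤ := cj_top g ▸ (sylowIn_top T).cj g
  obtain ⟨k, hk, h5⟩ := (h4.mono ((le_inf h3 (P1.nn h hZ ▸ h3)).trans (le_NP A B)) le_top).exists_cj_le
    T.isPGroup' (h.zc.trans h.cz)
  have h6 := mem_normalizer_iff_cj.1 (h3 (h5 (conj_mem_cj.2 h.uT)))
  rw [cj_mul, cj_mul] at h6
  rcases hk with ⟨p, q⟩ | ⟨p, q⟩
  · rw [Bas2.inv_cj p, h.uA, q] at h6; exact h.ne h6.symm
  · rw [Bas2.inv_cj q, h.uB, p] at h6; exact h.ne h6.symm

end H4.Q16
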